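import Cfsg.Agent.H996.PQ.Defs
import Cfsg.Agent.H317.PQ.Exc

/-!
# S4612, exceptional groups: arithmetic of the tests (helper795)

* `Phi e` : the cyclotomic polynomials; `dvd_Phi` : `ord q p = e` gives `p ∣ Φ_e(q)`; `one_mod` : `p ≡ 1 mod e`.
* `Ok P`, `Ok.deg` : the degrees as integers.
* `Loc P Φ` : the reductions of the polynomials of `P` modulo `Φ` (certificates): degrees `r i` (rational integers),
  `c i` and `n`: the only primes at which `D i`, `N` may vanish (`0`: they vanish modulo `Φ`).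
* `L.adm p s` : the tests for the set `s` at the "prime" `p` (`0`: all large primes); `Loc.adm_of_tst`;
  `LocOk L b` : the primes `> b` are large; `sep_adm`, `kill_of_tab` : the end of the argument for two primes.
* `radm`, `radm_of_tst` : the tests for a small prime, computed with the residue of `q`.
-/

set_option autoImplicit false

namespace Cfsg.Agent.H795.PQ

open Cfsg.Agent.H64.Dl.Sph Cfsg.Agent.H996.Eight.Cert Cfsg.Agent.H996.PQ Cfsg.Agent.H317.PQ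

/-! ### evaluation in `ℤ` -/

theorem evZ_mul (x : ℤ) (a b : List ℤ) : evZ x (pMul a b) = evZ x a * evZ x b := by
  have : ((evZ x (pMul a b) : ℤ) : ℚ) = ((evZ x a * evZ x b : ℤ) : ℚ) := by
    push_cast; rw [evZ_cast, evZ_cast, evZ_cast, ev_pMul]
  exact_mod_cast this

theorem evZ_add (x : ℤ) (a b : List ℤ) : evZ x (pAdd a b) = evZ x a + evZ x b := by
  have : ((evZ x (pAdd a b) : ℤ) : ℚ) = ((evZ x a + evZ x b : ℤ) : ℚ) := by
    push_cast; rw [evZ_cast, evZ_cast, evZ_cast, ev_pAdd]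
  exact_mod_cast this

theorem evZ_of_pEq {x : ℤ} {a b : List ℤ} (h : pEq a b = true) : evZ x a = evZ x b := by
  have : ((evZ x a : ℤ) : ℚ) = ((evZ x b : ℤ) : ℚ) := by
    rw [evZ_cast, evZ_cast, ev_of_pEq _ h]
  exact_mod_cast this

theorem evZ_one (x : ℤ) : evZ x [1] = 1 := by simp [evZ]

theorem evZ_single (x a : ℤ) : evZ x [a] = a := by simp [evZ]

/-- `x ^ d - 1` -/
def xm (d : ℕ) : List ℤ := pAdd (pShift d [1]) [-1]

theorem evZ_xm (x : ℤ) (d : ℕ) : evZ x (xm d) = x ^ d - 1 := by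
  have : ((evZ x (xm d) : ℤ) : ℚ) = ((x ^ d - 1 : ℤ) : ℚ) := by
    rw [evZ_cast, xm, ev_pAdd, ev_pShift, ev_cons, ev_nil, ev_cons, ev_nil]
    push_cast
    ring
  exact_mod_cast this

/-- products of the `x ^ d - 1` -/
def xms : List ℕ → List ℤ
  | [] => [1]
  | d :: l => pMul (xm d) (xms l)

/-! ### cyclotomic polynomials -/

/-- cyclotomic polynomials -/
def Phi : ℕ → List ℤ
  | 2 => [1, 1]
  | 3 => [1, 1, 1]
  | 4 => [1, 0, 1]
  | 5 => [1, 1, 1, 1, 1]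
  | 6 => [1, -1, 1]
  | 7 => [1, 1, 1, 1, 1, 1, 1]
  | 8 => [1, 0, 0, 0, 1]
  | 9 => [1, 0, 0, 1, 0, 0, 1]
  | 10 => [1, -1, 1, -1, 1]
  | 12 => [1, 0, -1, 0, 1]
  | 14 => [1, -1, 1, -1, 1, -1, 1]
  | 15 => [1, -1, 0, 1, -1, 1, 0, -1, 1]
  | 18 => [1, 0, 0, -1, 0, 0, 1]
  | 20 => [1, 0, -1, 0, 1, 0, -1, 0, 1]
  | 24 => [1, 0, 0, 0, -1, 0, 0, 0, 1]
  | 30 => [1, 1, 0, -1, -1, -1, 0, 1, 1]
  | _ => [0]

theorem dvd_of_xms {q p e : ℕ} (hq : 1 ≤ q) (hp : p.Prime) (he : ord q p = e) {L1 : List ℕ}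
    (h1 : ∀ d ∈ L1, 0 < d ∧ d < e) : ¬ (p : ℤ) ∣ evZ q (xms L1) := by
  induction L1 with
  | nil =>
    rw [xms, evZ_one]
    intro h
    exact hp.one_lt.ne' (by exact_mod_cast Int.natCast_dvd_natCast.1 (by exact_mod_cast h : ((p : ℕ) : ℤ) ∣ ((1 : ℕ) : ℤ)) |> Nat.dvd_one.1)
  | cons d l ih =>
    rw [xms, evZ_mul, evZ_xm]
    intro h
    rcases (Nat.prime_iff_prime_int.1 hp).dvd_or_dvd h with h2 | h2
    · have h3 : p ∣ q ^ d - 1 := by
        have h4 : ((q ^ d - 1 : ℕ) : ℤ) = (q : ℤ) ^ d - 1 := by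
          rw [Nat.cast_sub (Nat.one_le_pow _ _ hq)]
          push_cast
          ring
        rw [← h4] at h2
        exact Int.natCast_dvd_natCast.1 h2
      have h4 := (ord_dvd hq).2 h3
      rw [he] at h4
      have h5 := h1 d (by simp)
      exact absurd (Nat.le_of_dvd h5.1 h4) (by omega)
    · exact ih (fun d hd => h1 d (by simp [hd])) h2

theorem dvd_of_tab {q p e : ℕ} (hq : 1 ≤ q) (hp : p.Prime) (he : ord q p = e) {Φ : List ℤ} (L1 L2 : List ℕ)
    (h1 : ∀ d ∈ L1, 0 < d ∧ d < e) (h2 : pEq (pMul Φ (xms L1)) (pMul (xm e) (xms L2)) = true) :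
    (p : ℤ) ∣ evZ q Φ := by
  have h3 := evZ_of_pEq (x := (q : ℤ)) h2
  rw [evZ_mul, evZ_mul, evZ_xm] at h3
  have h4 : (p : ℤ) ∣ (q : ℤ) ^ e - 1 := by
    have h5 : p ∣ q ^ e - 1 := (ord_dvd hq).1 he.dvd
    have h6 : ((q ^ e - 1 : ℕ) : ℤ) = (q : ℤ) ^ e - 1 := by
      rw [Nat.cast_sub (Nat.one_le_pow _ _ hq)]
      push_cast
      ring
    rw [← h6]
    exact Int.natCast_dvd_natCast.2 h5
  have h5 : (p : ℤ) ∣ evZ q Φ * evZ q (xms L1) := by
    rw [h3]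
    exact Dvd.dvd.mul_right h4 _
  exact ((Nat.prime_iff_prime_int.1 hp).dvd_or_dvd h5).resolve_right (dvd_of_xms hq hp he h1)

/-- **`ord q p = e` gives `p ∣ Φ_e(q)`** -/
theorem dvd_Phi {q p e : ℕ} (hq : 1 ≤ q) (hp : p.Prime) (he : ord q p = e)
    (hl : e ∈ [2, 3, 4, 5, 6, 7, 8, 9, 10, 12, 14, 15, 18, 20, 24, 30]) : (p : ℤ) ∣ evZ q (Phi e) := by
  simp only [List.mem_cons, List.not_mem_nil, or_false] at hl
  rcases hl with rfl | rfl | rfl | rfl | rfl | rfl | rfl | rfl | rfl | rfl | rfl | rfl | rfl | rfl | rfl | rfl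
  · exact dvd_of_tab hq hp he [1] [] (by decide) (by decide +kernel)
  · exact dvd_of_tab hq hp he [1] [] (by decide) (by decide +kernel)
  · exact dvd_of_tab hq hp he [2] [] (by decide) (by decide +kernel)
  · exact dvd_of_tab hq hp he [1] [] (by decide) (by decide +kernel)
  · exact dvd_of_tab hq hp he [3, 2] [1] (by decide) (by decide +kernel)
  · exact dvd_of_tab hq hp he [1] [] (by decide) (by decide +kernel)
  · exact dvd_of_tab hq hp he [4] [] (by decide) (by decide +kernel)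
  · exact dvd_of_tab hq hp he [3] [] (by decide) (by decide +kernel)
  · exact dvd_of_tab hq hp he [5, 2] [1] (by decide) (by decide +kernel)
  · exact dvd_of_tab hq hp he [6, 4] [2] (by decide) (by decide +kernel)
  · exact dvd_of_tab hq hp he [7, 2] [1] (by decide) (by decide +kernel)
  · exact dvd_of_tab hq hp he [5, 3] [1] (by decide) (by decide +kernel)
  · exact dvd_of_tab hq hp he [9, 6] [3] (by decide) (by decide +kernel)
  · exact dvd_of_tab hq hp he [10, 4] [2] (by decide) (by decide +kernel)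
  · exact dvd_of_tab hq hp he [12, 8] [4] (by decide) (by decide +kernel)
  · exact dvd_of_tab hq hp he [15, 10, 6, 1] [5, 3, 2] (by decide) (by decide +kernel)

/-- `ord q p = e` gives `p ≡ 1 mod e` -/
theorem ord_dvd_sub {q p e : ℕ} (hp : p.Prime) (he : ord q p = e) (h0 : 0 < e) : e ∣ p - 1 := by
  have : Fact p.Prime := ⟨hp⟩
  rw [← he]
  refine ZMod.orderOf_dvd_card_sub_one ?_
  intro h
  rw [ord, h, orderOf_zero] at he
  omega

theorem one_mod {q p e : ℕ} (hp : p.Prime) (he : ord q p = e) (h0 : 1 < e) : p % e = 1 := by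
  obtain ⟨k, hk⟩ := ord_dvd_sub hp he (by omega)
  have h1 : p = e * k + 1 := by have := hp.one_lt; omega
  rw [h1, Nat.mul_add_mod, Nat.mod_eq_of_lt h0]

/-- `ord q p = 2` for odd `p`: `p ∣ q + 1` -/
theorem mod_of_ord_two {q p : ℕ} (hq : 1 ≤ q) (hp : p.Prime) (he : ord q p = 2) : p ∣ q + 1 := by
  have h1 := dvd_Phi hq hp he (by decide)
  have h2 : evZ q (Phi 2) = ((q + 1 : ℕ) : ℤ) := by simp [Phi, evZ]; ring
  rw [h2] at h1
  exact Int.natCast_dvd_natCast.1 h1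

/-! ### degrees -/

/-- the test of the degrees -/
def Ok {m : ℕ} (P : Pol m) : Prop := ∀ i, 0 < P.den i ∧ pDvd (P.den i) (P.dn i) ∧ pPos (P.dn i) = true

instance {m : ℕ} (P : Pol m) : Decidable (Ok P) := by unfold Ok; infer_instance

variable {m : ℕ} {P : Pol m} {Φ Ψ : List ℤ} {x p l b : ℕ} {S : Finset (Fin m)}

theorem Ok.deg (h : Ok P) (hx : 2 ≤ x) (i : Fin m) : (P.den i : ℤ) * (P.deg x i : ℤ) = evZ x (P.dn i) := by
  have h1 := val_spec (h i).1 (h i).2.1 (h i).2.2 hx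
  have h2 : (((P.den i : ℤ) * (P.deg x i : ℤ) : ℤ) : ℚ) = ((evZ x (P.dn i) : ℤ) : ℚ) := by
    rw [evZ_cast]
    push_cast
    exact h1
  exact_mod_cast h2

theorem Ok.deg_eq (h : Ok P) (hx : 2 ≤ x) (i : Fin m) : (P.deg x i : ℤ) = evZ x (P.dn i) / P.den i := by
  rw [← h.deg hx i, Int.mul_ediv_cancel_left]
  have := (h i).1
  omega

/-! ### reductions modulo a cyclotomic polynomial -/

/-- the reductions of the polynomials modulo `Φ` -/
structure Loc {m : ℕ} (P : Pol m) (Φ : List ℤ) where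
  r : Fin m → ℤ
  Q : Fin m → List ℤ
  c : Fin m → ℤ
  A : Fin m → List ℤ
  B : Fin m → List ℤ
  n : ℤ
  NA : List ℤ
  NB : List ℤ
  hQ : ∀ i, pEq (P.dn i) (pAdd [P.den i * r i] (pMul Φ (Q i))) = true
  hc : ∀ i, pEq (pAdd (pMul Φ (A i)) (pMul (pMul [-1, 1] (P.D i)) (B i))) [c i] = true
  hn : if n = 0 then pEq P.N (pMul Φ NA) = true else pEq (pAdd (pMul Φ NA) (pMul P.N NB)) [n] = true

namespace Loc

variable (L : Loc P Φ)

theorem cls (T : Tst P x p S) (hΦ : (p : ℤ) ∣ evZ x Φ) {i : Fin m} (hi : i ∈ S) : (p : ℤ) ∣ L.c i := by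
  have h1 := evZ_of_pEq (x := (x : ℤ)) (L.hc i)
  rw [evZ_add, evZ_mul, evZ_mul, evZ_mul, evZ_single] at h1
  rw [← h1]
  have h2 : evZ (x : ℤ) [-1, 1] = (x : ℤ) - 1 := by simp [evZ]; ring
  rw [h2]
  exact dvd_add (Dvd.dvd.mul_right hΦ _) (Dvd.dvd.mul_right (T.cls i hi) _)

theorem deg (ok : Ok P) (hx : 2 ≤ x) (hp : p.Prime) {i : Fin m} (hd : ¬ p ∣ P.den i) (hΦ : (p : ℤ) ∣ evZ x Φ) :
    (p : ℤ) ∣ (P.deg x i : ℤ) - L.r i := by
  have h1 := evZ_of_pEq (x := (x : ℤ)) (L.hQ i)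
  rw [← ok.deg hx i, evZ_add, evZ_mul, evZ_single] at h1
  have h2 : (p : ℤ) ∣ (P.den i : ℤ) * ((P.deg x i : ℤ) - L.r i) := by
    rw [mul_sub, h1, add_sub_cancel_left]
    exact Dvd.dvd.mul_right hΦ _
  refine ((Nat.prime_iff_prime_int.1 hp).dvd_or_dvd h2).resolve_left fun h3 => hd ?_
  exact Int.natCast_dvd_natCast.1 h3

theorem sum (ok : Ok P) (hx : 2 ≤ x) (hp : p.Prime) (hd : ∀ i, ¬ p ∣ P.den i) (hΦ : (p : ℤ) ∣ evZ x Φ)
    (S : Finset (Fin m)) : (p : ℤ) ∣ ∑ i ∈ S, (P.deg x i : ℤ) - ∑ i ∈ S, L.r i := by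
  rw [← Finset.sum_sub_distrib]
  exact Finset.dvd_sum fun i _ => L.deg ok hx hp (hd i) hΦ

theorem tr (T : Tst P x p S) (ok : Ok P) (hx : 2 ≤ x) (hp : p.Prime) (hd : ∀ i, ¬ p ∣ P.den i)
    (hΦ : (p : ℤ) ∣ evZ x Φ) (h0 : L.n = 0) : (p : ℤ) ∣ ∑ i ∈ S, L.r i := by
  have h1 := L.hn
  rw [if_pos h0] at h1
  have h2 := T.tr 1 (by rw [pow_one, evZ_of_pEq h1, evZ_mul]; exact Dvd.dvd.mul_right hΦ _)
  rw [pow_one] at h2
  exact (dvd_sub_right h2).1 (L.sum ok hx hp hd hΦ S)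

theorem tr' (T : Tst P x p S) (ok : Ok P) (hx : 2 ≤ x) (hp : p.Prime) (hd : ∀ i, ¬ p ∣ P.den i)
    (hΦ : (p : ℤ) ∣ evZ x Φ) (h0 : ¬ (p : ℤ) ∣ L.n) : ¬ (p : ℤ) ∣ ∑ i ∈ S, L.r i := by
  have h1 := L.hn
  rw [if_neg (fun h => h0 (by rw [h]; exact dvd_zero _))] at h1
  intro h2
  refine T.tr' ?_ ((dvd_iff_dvd_of_dvd_sub (L.sum ok hx hp hd hΦ S)).2 h2)
  intro h3
  apply h0
  rw [← evZ_single x L.n, ← evZ_of_pEq h1, evZ_add, evZ_mul, evZ_mul]
  exact dvd_add (Dvd.dvd.mul_right hΦ _) (Dvd.dvd.mul_right h3 _)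

/-- the sum of the degrees -/
def sm (s : Fin m → Bool) : ℤ := (List.finRange m).foldr (fun i a => if s i = true then L.r i + a else a) 0

/-- the tests at the prime `p` (`0`: all large primes) for the set `s` -/
def adm (p : ℤ) (s : Fin m → Bool) : Prop :=
  (∀ i, s i = true → p ∣ L.c i) ∧ if L.n = 0 then p ∣ L.sm s else p ∣ L.n ∨ ¬ p ∣ L.sm s

instance (p : ℤ) (s : Fin m → Bool) : Decidable (L.adm p s) := by unfold adm; infer_instance

theorem sm_eq (s : Fin m → Bool) (hs : ∀ i, s i = true ↔ i ∈ S) : L.sm s = ∑ i ∈ S, L.r i := by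
  have key : ∀ l : List (Fin m), l.foldr (fun i a => if s i = true then L.r i + a else a) 0 =
      (l.map fun i => if s i = true then L.r i else 0).sum := by
    intro l
    induction l with
    | nil => rfl
    | cons i l ih =>
      rw [List.foldr_cons, List.map_cons, List.sum_cons, ih]
      split_ifs <;> ring
  have h1 : ∑ i, (if s i = true then L.r i else 0) =
      ((List.finRange m).map fun i => if s i = true then L.r i else 0).sum := by
    rw [← List.sum_ofFn, List.ofFn_eq_map]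
  rw [sm, key, ← h1, ← Finset.sum_filter]
  congr 1
  ext i
  simp [hs]

theorem adm_of_tst (T : Tst P x p S) (ok : Ok P) (hx : 2 ≤ x) (hp : p.Prime) (hd : ∀ i, ¬ p ∣ P.den i)
    (hΦ : (p : ℤ) ∣ evZ x Φ) {s : Fin m → Bool} (hs : ∀ i, s i = true ↔ i ∈ S) : L.adm p s := by
  refine ⟨fun i hi => L.cls T hΦ ((hs i).1 hi), ?_⟩
  rw [L.sm_eq s hs]
  split_ifs with h0
  · exact L.tr T ok hx hp hd hΦ h0
  · by_cases h1 : (p : ℤ) ∣ L.n
    · exact Or.inl h1
    · exact Or.inr (L.tr' T ok hx hp hd hΦ h1)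

/-- the primes `> b` are large -/
def Bd (b : ℕ) : Prop :=
  (∀ i, L.c i = 0 ∨ L.c i ∣ ((b.factorial : ℤ) ^ 12)) ∧ (L.n = 0 ∨ L.n ∣ ((b.factorial : ℤ) ^ 12)) ∧
    (List.finRange m).foldr (fun i a => (L.r i).natAbs + a) 0 ≤ b

instance (b : ℕ) : Decidable (L.Bd b) := by unfold Bd; infer_instance

theorem eq_zero_of_dvd (hp : p.Prime) (hb : b < p) {c : ℤ} (hc : c = 0 ∨ c ∣ ((b.factorial : ℤ) ^ 12))
    (h : (p : ℤ) ∣ c) : c = 0 := by
  rcases hc with hc | hc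
  · exact hc
  · have h1 := (Nat.prime_iff_prime_int.1 hp).dvd_of_dvd_pow (h.trans hc)
    have h2 := (hp.dvd_factorial).1 (Int.natCast_dvd_natCast.1 h1)
    omega

theorem abs_sm_le (s : Fin m → Bool) :
    (L.sm s).natAbs ≤ (List.finRange m).foldr (fun i a => (L.r i).natAbs + a) 0 := by
  rw [sm]
  generalize List.finRange m = l
  induction l with
  | nil => simp
  | cons i l ih =>
    rw [List.foldr_cons, List.foldr_cons]
    split_ifs
    · exact (Int.natAbs_add_le _ _).trans (by omega)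
    · omega

theorem adm_zero (hp : p.Prime) (hb : b < p) (hB : L.Bd b) {s : Fin m → Bool} (h : L.adm p s) : L.adm 0 s := by
  have h0 : (p : ℤ) ∣ L.sm s → L.sm s = 0 := by
    intro h1
    have h2 := L.abs_sm_le s
    exact Int.eq_zero_of_abs_lt_dvd h1 (by rw [Int.abs_eq_natAbs]; have := hB.2.2; exact_mod_cast (by omega))
  refine ⟨fun i hi => ?_, ?_⟩
  · rw [eq_zero_of_dvd hp hb (hB.1 i) (h.1 i hi)]
  · have h1 := h.2
    split_ifs at h1 ⊢ with h2
    · rw [h0 h1]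
    · right
      intro h3
      rcases h1 with h1 | h1
      · exact h2 (eq_zero_of_dvd hp hb hB.2.1 h1)
      · exact h1 (by rw [zero_dvd_iff.1 h3]; exact dvd_zero _)

end Loc

/-- `p` if it is small, otherwise `0` -/
def red (b p : ℕ) : ℕ := if p ≤ b then p else 0

theorem Loc.adm_red (L : Loc P Φ) (T : Tst P x p S) (ok : Ok P) (hx : 2 ≤ x) (hp : p.Prime)
    (hd : ∀ i, ¬ p ∣ P.den i) (hΦ : (p : ℤ) ∣ evZ x Φ) (hB : L.Bd b) {s : Fin m → Bool}
    (hs : ∀ i, s i = true ↔ i ∈ S) : L.adm (red b p) s := by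
  have h1 := L.adm_of_tst T ok hx hp hd hΦ hs
  rw [red]
  split_ifs with h2
  · exact h1
  · exact L.adm_zero hp (by omega) hB h1

/-- the set of a number -/
def bits (m n : ℕ) (i : Fin m) : Bool := n.testBit i

theorem exists_bits (S : Finset (Fin m)) : ∃ n : Fin (2 ^ m), ∀ i, bits m n i = true ↔ i ∈ S := by
  classical
  refine ⟨⟨Nat.ofBits fun i : Fin m => decide (i ∈ S), Nat.ofBits_lt_two_pow _⟩, fun i => ?_⟩
  rw [bits]
  simp

/-- **both tests** -/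
theorem sep_adm (L : Loc P Φ) (L' : Loc P Ψ) (ok : Ok P) (hx : 2 ≤ x) (hp : p.Prime) (hl : l.Prime)
    (hd : ∀ i, ¬ p ∣ P.den i) (hd' : ∀ i, ¬ l ∣ P.den i) (hΦ : (p : ℤ) ∣ evZ x Φ) (hΨ : (l : ℤ) ∣ evZ x Ψ)
    (hB : L.Bd b) (hB' : L'.Bd b) {i₀ : Fin m} (h : Sep P x p l i₀) :
    ∃ n : Fin (2 ^ m), bits m n i₀ = true ∧ L.adm (red b p) (bits m n) ∧ L'.adm (red b l) (bits m n) := by
  obtain ⟨S, h0, h1, h2⟩ := h
  obtain ⟨n, hn⟩ := exists_bits S
  exact ⟨n, (hn i₀).2 h0, L.adm_red h1 ok hx hp hd hΦ hB hn, L'.adm_red h2 ok hx hl hd' hΨ hB' hn⟩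

/-- the table of the pair: no set for the given primes -/
def NoSet (L : Loc P Φ) (L' : Loc P Ψ) (i₀ : Fin m) (p l : ℕ) : Prop :=
  ∀ n : Fin (2 ^ m), ¬ (bits m n i₀ = true ∧ L.adm p (bits m n) ∧ L'.adm l (bits m n))

instance (L : Loc P Φ) (L' : Loc P Ψ) (i₀ : Fin m) (p l : ℕ) : Decidable (NoSet L L' i₀ p l) := by
  unfold NoSet; infer_instance

/-- candidates: `0` (all large primes), or a prime `≡ 1` modulo `e` which does not divide the denominators -/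
def cand (P : Pol m) (e p : ℕ) : Bool :=
  p == 0 || (decide p.Prime && (p % e == 1) && (List.finRange m).all fun i => !decide (p ∣ P.den i))

/-- the table of a pair of orders: no set for all pairs of candidates `≤ b`, up to the exceptions `exc` -/
def tabOk {e f : ℕ} (L : Loc P (Phi e)) (L' : Loc P (Phi f)) (i₀ : Fin m) (b : ℕ) (exc : List (ℕ × ℕ)) : Bool :=
  (List.range (b + 1)).all fun p => !cand P e p ||
    (List.range (b + 1)).all fun l => !cand P f l || decide ((p, l) ∈ exc) || decide (NoSet L L' i₀ p l)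

theorem cand_red {e : ℕ} (hp : p.Prime) (he : ord x p = e) (h1 : 1 < e) (hd : ∀ i, ¬ p ∣ P.den i) :
    cand P e (red b p) = true ∧ red b p ∈ List.range (b + 1) := by
  rw [red]
  split_ifs with h3
  · refine ⟨?_, List.mem_range.2 (by omega)⟩
    rw [cand, Bool.or_eq_true, Bool.and_eq_true, Bool.and_eq_true, List.all_eq_true]
    refine Or.inr ⟨⟨decide_eq_true hp, ?_⟩, fun i _ => ?_⟩
    · rw [beq_iff_eq]; exact one_mod hp he h1
    · simpa using hd i
  · exact ⟨rfl, List.mem_range.2 (by omega)⟩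

/-- **no common set**: the table says so for all pairs of small (`≤ b`, `≡ 1` mod `e` resp. `f`) or large (`0`) primes
which are not divisors of the denominators, up to the exceptions `exc` -/
theorem kill_of_tab {e f : ℕ} (L : Loc P (Phi e)) (L' : Loc P (Phi f)) (ok : Ok P) (hx : 2 ≤ x) (hp : p.Prime)
    (hl : l.Prime) (hd : ∀ i, ¬ p ∣ P.den i) (hd' : ∀ i, ¬ l ∣ P.den i) (he : ord x p = e) (hf : ord x l = f)
    (hle : e ∈ [2, 3, 4, 5, 6, 7, 8, 9, 10, 12, 14, 15, 18, 20, 24, 30])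
    (hlf : f ∈ [2, 3, 4, 5, 6, 7, 8, 9, 10, 12, 14, 15, 18, 20, 24, 30])
    (hB : L.Bd b) (hB' : L'.Bd b) {i₀ : Fin m} (exc : List (ℕ × ℕ)) (htab : tabOk L L' i₀ b exc = true)
    (hexc : (red b p, red b l) ∉ exc) : ¬ Sep P x p l i₀ := by
  intro h
  obtain ⟨n, hn⟩ := sep_adm L L' ok hx hp hl hd hd' (dvd_Phi (by omega) hp he hle) (dvd_Phi (by omega) hl hf hlf) hB hB' h
  have h2 : ∀ e ∈ [2, 3, 4, 5, 6, 7, 8, 9, 10, 12, 14, 15, 18, 20, 24, 30], 1 < e := by decide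
  have h3 := cand_red (b := b) hp he (h2 _ hle) hd
  have h4 := cand_red (b := b) hl hf (h2 _ hlf) hd'
  rw [tabOk, List.all_eq_true] at htab
  have h5 := htab _ h3.2
  rw [h3.1, Bool.not_true, Bool.false_or, List.all_eq_true] at h5
  have h6 := h5 _ h4.2
  rw [h4.1, Bool.not_true, Bool.false_or, Bool.or_eq_true, decide_eq_true_eq, decide_eq_true_eq] at h6
  exact h6.resolve_left hexc n hn

/-! ### small primes -/

/-- the sum of the degrees, computed -/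
def smr (P : Pol m) (x₀ : ℤ) (s : Fin m → Bool) : ℤ :=
  (List.finRange m).foldr (fun i a => if s i = true then evZ x₀ (P.dn i) / P.den i + a else a) 0

/-- the tests at the small prime `p` with the powers `≤ p ^ k`, computed with the residue `x₀` of `x` -/
def radm (P : Pol m) (p k x₀ : ℕ) (s : Fin m → Bool) : Prop :=
  (∀ i, s i = true → (p : ℤ) ∣ ((x₀ : ℤ) - 1) * evZ x₀ (P.D i)) ∧
  (∀ j < k + 1, (p : ℤ) ^ j ∣ evZ x₀ P.N → (p : ℤ) ^ j ∣ smr P x₀ s) ∧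
  (¬ (p : ℤ) ∣ evZ x₀ P.N → ¬ (p : ℤ) ∣ smr P x₀ s)

instance (P : Pol m) (p k x₀ : ℕ) (s : Fin m → Bool) : Decidable (radm P p k x₀ s) := by unfold radm; infer_instance

theorem evZ_modEq {d x y : ℤ} (h : x ≡ y [ZMOD d]) (a : List ℤ) : evZ x a ≡ evZ y a [ZMOD d] := by
  rw [Int.ModEq, evZ_emod d x, evZ_emod d y, h]

/-- degrees modulo `p ^ k` from the residue modulo `M` -/
theorem deg_modEq (ok : Ok P) (hx : 2 ≤ x) {M d : ℕ} (i : Fin m) (hM : P.den i * d ∣ M) :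
    (P.deg x i : ℤ) ≡ evZ ((x % M : ℕ) : ℤ) (P.dn i) / P.den i [ZMOD d] := by
  have h0 := (ok i).1
  have h0' : (0 : ℤ) < P.den i := by exact_mod_cast h0
  have h1 : ((x % M : ℕ) : ℤ) ≡ (x : ℤ) [ZMOD ((P.den i : ℤ) * d)] := by
    have h2 : ((x % M : ℕ) : ℤ) ≡ (x : ℤ) [ZMOD (M : ℤ)] := by
      rw [Int.natCast_mod]
      exact Int.mod_modEq _ _
    refine h2.of_dvd ?_
    exact_mod_cast Int.natCast_dvd_natCast.2 hM
  have h2 := evZ_modEq h1 (P.dn i)
  have h3 : (P.den i : ℤ) ∣ evZ ((x % M : ℕ) : ℤ) (P.dn i) := dvd_of_pDvd h0 (ok i).2.1 _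
  obtain ⟨k, hk⟩ := h3
  rw [hk, ← ok.deg hx i] at h2
  rw [hk, Int.mul_ediv_cancel_left _ h0'.ne']
  exact (Int.ModEq.mul_left_cancel' h0'.ne' h2).symm

theorem smr_modEq (ok : Ok P) (hx : 2 ≤ x) {M d : ℕ} (hM : ∀ i, P.den i * d ∣ M) {s : Fin m → Bool}
    (hs : ∀ i, s i = true ↔ i ∈ S) : (∑ i ∈ S, (P.deg x i : ℤ)) ≡ smr P ((x % M : ℕ) : ℤ) s [ZMOD d] := by
  have key : ∀ l : List (Fin m), (l.map fun i => if s i = true then (P.deg x i : ℤ) else 0).sum ≡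
      l.foldr (fun i a => if s i = true then evZ ((x % M : ℕ) : ℤ) (P.dn i) / P.den i + a else a) 0 [ZMOD d] := by
    intro l
    induction l with
    | nil => rfl
    | cons i l ih =>
      rw [List.foldr_cons, List.map_cons, List.sum_cons]
      split_ifs
      · exact (deg_modEq ok hx i (hM i)).add ih
      · rw [zero_add]; exact ih
  have h1 : ∑ i, (if s i = true then (P.deg x i : ℤ) else 0) =
      ((List.finRange m).map fun i => if s i = true then (P.deg x i : ℤ) else 0).sum := by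
    rw [← List.sum_ofFn, List.ofFn_eq_map]
  have h2 : ∑ i ∈ S, (P.deg x i : ℤ) = ∑ i, (if s i = true then (P.deg x i : ℤ) else 0) := by
    rw [← Finset.sum_filter]
    congr 1
    ext i
    simp [hs]
  rw [h2, h1]
  exact key _

/-- **the tests for a small prime**; `M` is divisible by the `p ^ k * den i` -/
theorem radm_of_tst (T : Tst P x p S) (ok : Ok P) (hx : 2 ≤ x) (i₀ : Fin m) {M k : ℕ} (hk : 1 ≤ k)
    (hM : ∀ i, P.den i * p ^ k ∣ M) {s : Fin m → Bool} (hs : ∀ i, s i = true ↔ i ∈ S) :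
    radm P p k (x % M) s := by
  have hpM : p ^ k ∣ M := (Dvd.intro_left _ rfl).trans (hM i₀)
  have hx0 : ∀ j, j ≤ k → ((x % M : ℕ) : ℤ) ≡ (x : ℤ) [ZMOD ((p : ℤ) ^ j)] := by
    intro j hj
    have h2 : ((x % M : ℕ) : ℤ) ≡ (x : ℤ) [ZMOD (M : ℤ)] := by
      rw [Int.natCast_mod]
      exact Int.mod_modEq _ _
    refine h2.of_dvd ?_
    exact_mod_cast Int.natCast_dvd_natCast.2 ((pow_dvd_pow p hj).trans hpM)
  have hsm : ∀ j, j ≤ k → (∑ i ∈ S, (P.deg x i : ℤ)) ≡ smr P ((x % M : ℕ) : ℤ) s [ZMOD ((p : ℤ) ^ j)] := by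
    intro j hj
    have h2 := smr_modEq ok hx (d := p ^ j) (fun i => (Nat.mul_dvd_mul_left _ (pow_dvd_pow p hj)).trans (hM i)) hs
    push_cast at h2
    exact h2
  refine ⟨fun i hi => ?_, fun j hj h1 => ?_, fun h1 => ?_⟩
  · have h1 := T.cls i ((hs i).1 hi)
    have h2 := hx0 1 hk
    rw [pow_one] at h2
    have h3 := (h2.sub_right 1).mul (evZ_modEq h2 (P.D i))
    exact (h3.dvd_iff).2 h1
  · have h2 := hx0 j (by omega)
    have h3 := T.tr j (((evZ_modEq h2 P.N).dvd_iff).1 h1)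
    exact ((hsm j (by omega)).dvd_iff).1 h3
  · have h2 := hx0 1 hk
    rw [pow_one] at h2
    have h3 := T.tr' (fun h => h1 (((evZ_modEq h2 P.N).dvd_iff).2 h))
    have h4 := hsm 1 hk
    rw [pow_one] at h4
    exact fun h => h3 ((h4.dvd_iff).2 h)

/-- the table of a small prime `p` (residues `x₀` modulo `M`, powers `≤ p ^ k`) against `Φ`: no set -/
def NoSetR (P : Pol m) (p k x₀ : ℕ) (L' : Loc P Φ) (i₀ : Fin m) (l : ℕ) : Prop :=
  ∀ n : Fin (2 ^ m), ¬ (bits m n i₀ = true ∧ radm P p k x₀ (bits m n) ∧ L'.adm l (bits m n))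

instance (P : Pol m) (p k x₀ : ℕ) (L' : Loc P Φ) (i₀ : Fin m) (l : ℕ) : Decidable (NoSetR P p k x₀ L' i₀ l) := by
  unfold NoSetR; infer_instance

/-- the table of a small prime: `M` the modulus, `cond` the residues -/
def tabOkR {f : ℕ} (p k M : ℕ) (L' : Loc P (Phi f)) (i₀ : Fin m) (b : ℕ) (cond : ℕ → Bool) (exc : List ℕ) : Bool :=
  (List.range M).all fun x₀ => !cond x₀ ||
    (List.range (b + 1)).all fun l => !cand P f l || decide (l ∈ exc) || decide (NoSetR P p k x₀ L' i₀ l)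

/-- **a small prime `p` (also `2`) against a prime `l` of order `f`**; `cond`: what is known about `x % M` -/
theorem kill_small {f : ℕ} (L' : Loc P (Phi f)) (ok : Ok P) (hx : 2 ≤ x) {M k : ℕ} (hk : 1 ≤ k) (hM0 : 0 < M)
    (hM : ∀ i, P.den i * p ^ k ∣ M) (hl : l.Prime) (hd' : ∀ i, ¬ l ∣ P.den i) (hf : ord x l = f)
    (hlf : f ∈ [2, 3, 4, 5, 6, 7, 8, 9, 10, 12, 14, 15, 18, 20, 24, 30]) (hB' : L'.Bd b) {i₀ : Fin m}
    (cond : ℕ → Bool) (hc : cond (x % M) = true) (exc : List ℕ) (htab : tabOkR p k M L' i₀ b cond exc = true)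
    (hexc : red b l ∉ exc) : ¬ Sep P x p l i₀ := by
  rintro ⟨S, h0, h1, h2⟩
  obtain ⟨n, hn⟩ := exists_bits S
  have h3 := radm_of_tst h1 ok hx i₀ hk hM hn
  have h4 := L'.adm_red h2 ok hx hl hd' (dvd_Phi (by omega) hl hf hlf) hB' hn
  have h2 : ∀ e ∈ [2, 3, 4, 5, 6, 7, 8, 9, 10, 12, 14, 15, 18, 20, 24, 30], 1 < e := by decide
  have h5 := cand_red (b := b) hl hf (h2 _ hlf) hd'
  rw [tabOkR, List.all_eq_true] at htab
  have h6 := htab _ (List.mem_range.2 (Nat.mod_lt x hM0))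
  rw [hc, Bool.not_true, Bool.false_or, List.all_eq_true] at h6
  have h7 := h6 _ h5.2
  rw [h5.1, Bool.not_true, Bool.false_or, Bool.or_eq_true, decide_eq_true_eq, decide_eq_true_eq] at h7
  exact h7.resolve_left hexc n ⟨(hn i₀).2 h0, h3, h4⟩

end Cfsg.Agent.H795.PQ
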