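import Cfsg.Agent.H795.PQ.Arith
import Cfsg.Agent.H996.PQ.RowG2

/-!
# S4612, `G₂(q)`: the pairs of primes of different orders (helper795)

`kill_G2` : `Kill e f` for `e < f` in `[2, 3, 6]`; `killTwo_G2_three`, `killTwo_G2_six` : `KillTwo 3`, `KillTwo 6` (`q ≡ 3` mod 4).
-/

set_option autoImplicit false

namespace Cfsg.Agent.H795.PQ.GTwo

open Cfsg Cfsg.Agent.H64.Dl.Sph Cfsg.Agent.H996.Eight.Cert Cfsg.Agent.H996.PQ Cfsg.Agent.H317.PQ
open Cfsg.Lie Cfsg.Agent.ChevalleyStructure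

universe u

theorem ok : Ok FullG2a.pol := by decide +kernel

/-- `FullG2a` modulo `Φ_2` -/
def l2 : Loc FullG2a.pol (Phi 2) where
  r i := ([1, -1, 0, 0] : List ℤ).getD i 0
  Q i := ([[], [3, -2, 2, -1, 1], [0, 1, 0, 0, 1], [0, 1, 2, 2, 1]] : List (List ℤ)).getD i []
  c i := ([0, 0, 2, 6] : List ℤ).getD i 0
  A i := ([[], [], [2, -2, 2, -1, 1, -1], [6, -6, 4, -1, -1, 1]] : List (List ℤ)).getD i []
  B i := ([[], [], [1], [-1]] : List (List ℤ)).getD i []
  n := 0
  NA := [1, 0, 1, 0, 1]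
  NB := []
  hQ := by decide +kernel
  hc := by decide +kernel
  hn := by decide +kernel

/-- `FullG2a` modulo `Φ_3` -/
def l3 : Loc FullG2a.pol (Phi 3) where
  r i := ([1, 0, -1, 0] : List ℤ).getD i 0
  Q i := ([[], [0, 1, -1, 1], [2, -1, 0, 1], [0, 1, 2, 1]] : List (List ℤ)).getD i []
  c i := ([0, 3, 0, 6] : List ℤ).getD i 0
  A i := ([[], [3, -3, -1, 3, 0, -1], [], [6, -6, 2, 1, -1]] : List (List ℤ)).getD i []
  B i := ([[], [1, 1], [], [1]] : List (List ℤ)).getD i []
  n := 0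
  NA := [1, 0, 0, 1]
  NB := []
  hQ := by decide +kernel
  hc := by decide +kernel
  hn := by decide +kernel

/-- `FullG2a` modulo `Φ_6` -/
def l6 : Loc FullG2a.pol (Phi 6) where
  r i := ([1, 0, 0, -1] : List ℤ).getD i 0
  Q i := ([[], [0, 1, 1, 1], [0, 1, 2, 1], [6, 7, 4, 1]] : List (List ℤ)).getD i []
  c i := ([0, 3, 2, 0] : List ℤ).getD i 0
  A i := ([[], [3, 3, -1, -3, 0, 1], [2, 2, 0, -1, -1], []] : List (List ℤ)).getD i []
  B i := ([[], [1, -1], [1], []] : List (List ℤ)).getD i []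
  n := 0
  NA := [1, 2, 2, 1]
  NB := []
  hQ := by decide +kernel
  hc := by decide +kernel
  hn := by decide +kernel

theorem den_dvd : ∀ i, FullG2a.pol.den i ∣ 6 := by decide +kernel

theorem not_dvd_den {p : ℕ} (hp : p.Prime) (h2 : p ≠ 2) (h3 : p ≠ 3) (i : Fin 4) : ¬ p ∣ FullG2a.pol.den i := by
  intro h
  have h1 : p ∣ 2 * 3 := h.trans (den_dvd i)
  rcases (hp.dvd_mul).1 h1 with h4 | h4
  · exact h2 ((Nat.prime_dvd_prime_iff_eq hp Nat.prime_two).1 h4)
  · exact h3 ((Nat.prime_dvd_prime_iff_eq hp Nat.prime_three).1 h4)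

theorem kill_aux {x p l e f : ℕ} (hx : 2 ≤ x) (hp : p.Prime) (hl : l.Prime) (hp2 : p ≠ 2) (hl2 : l ≠ 2)
    (he : ord x p = e) (hf : ord x l = f) (hef : (e, f) ∈ [(2, 3), (2, 6), (3, 6)]) : ¬ Sep FullG2a.pol x p l 0 := by
  have h3 : ∀ {l f : ℕ}, l.Prime → ord x l = f → 3 ≤ f → l ≠ 3 := by
    rintro l f hl hf h rfl
    have h1 := one_mod hl hf (by omega)
    rcases Nat.lt_or_ge 3 f with h2 | h2
    · rw [Nat.mod_eq_of_lt h2] at h1; omega
    · have h4 : f = 3 := by omega
      subst h4; omega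
  simp only [List.mem_cons, Prod.mk.injEq, List.not_mem_nil, or_false] at hef
  rcases hef with ⟨rfl, rfl⟩ | ⟨rfl, rfl⟩ | ⟨rfl, rfl⟩
  · by_cases hp3 : p = 3
    · subst hp3
      refine kill_small (b := 3) (M := 18) (k := 1) l3 ok hx le_rfl (by norm_num) (by decide +kernel) hl
        (not_dvd_den hl hl2 (h3 hl hf le_rfl)) hf (by decide) (by decide +kernel) (fun x₀ => x₀ % 3 == 2) ?_ []
        (by decide +kernel) (by simp)
      have h5 := mod_of_ord_two (by omega) hp he
      simp only [beq_iff_eq]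
      omega
    · exact kill_of_tab (b := 3) l2 l3 ok hx hp hl (not_dvd_den hp hp2 hp3) (not_dvd_den hl hl2 (h3 hl hf le_rfl)) he hf
        (by decide) (by decide) (by decide +kernel) (by decide +kernel) [] (by decide +kernel) (by simp)
  · by_cases hp3 : p = 3
    · subst hp3
      refine kill_small (b := 3) (M := 18) (k := 1) l6 ok hx le_rfl (by norm_num) (by decide +kernel) hl
        (not_dvd_den hl hl2 (h3 hl hf (by norm_num))) hf (by decide) (by decide +kernel) (fun x₀ => x₀ % 3 == 2) ?_ []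
        (by decide +kernel) (by simp)
      have h5 := mod_of_ord_two (by omega) hp he
      simp only [beq_iff_eq]
      omega
    · exact kill_of_tab (b := 3) l2 l6 ok hx hp hl (not_dvd_den hp hp2 hp3) (not_dvd_den hl hl2 (h3 hl hf (by norm_num)))
        he hf (by decide) (by decide) (by decide +kernel) (by decide +kernel) [] (by decide +kernel) (by simp)
  · exact kill_of_tab (b := 3) l3 l6 ok hx hp hl (not_dvd_den hp hp2 (h3 hp he le_rfl))
      (not_dvd_den hl hl2 (h3 hl hf (by norm_num))) he hf (by decide) (by decide) (by decide +kernel) (by decide +kernel) []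
      (by decide +kernel) (by simp)

theorem killTwo_aux {x l f : ℕ} (hx : 2 ≤ x) (h4 : x % 4 = 3) (hl : l.Prime) (hl2 : l ≠ 2)
    (hf : ord x l = f) (hff : f ∈ [3, 6]) : ¬ Sep FullG2a.pol x 2 l 0 := by
  have h3 : ∀ {l f : ℕ}, l.Prime → ord x l = f → 3 ≤ f → l ≠ 3 := by
    rintro l f hl hf h rfl
    have h1 := one_mod hl hf (by omega)
    rcases Nat.lt_or_ge 3 f with h2 | h2
    · rw [Nat.mod_eq_of_lt h2] at h1; omega
    · have h4 : f = 3 := by omega
      subst h4; omega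
  simp only [List.mem_cons, List.not_mem_nil, or_false] at hff
  rcases hff with rfl | rfl
  · exact kill_small (b := 3) (M := 12) (k := 1) l3 ok hx le_rfl (by norm_num) (by decide +kernel) hl
      (not_dvd_den hl hl2 (h3 hl hf le_rfl)) hf (by decide) (by decide +kernel) (fun x₀ => x₀ % 4 == 3)
      (by simp only [beq_iff_eq]; omega) [] (by decide +kernel) (by simp)
  · exact kill_small (b := 3) (M := 12) (k := 1) l6 ok hx le_rfl (by norm_num) (by decide +kernel) hl
      (not_dvd_den hl hl2 (h3 hl hf (by norm_num))) hf (by decide) (by decide +kernel) (fun x₀ => x₀ % 4 == 3)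
      (by simp only [beq_iff_eq]; omega) [] (by decide +kernel) (by simp)

section

variable (K : Type u) [Field K] [Fintype K]

/-- **`Kill e f`, `e < f`, for `G₂(q)`** -/
theorem kill_G2 {e f : ℕ} (hef : (e, f) ∈ [(2, 3), (2, 6), (3, 6)]) :
    Kill ↥(chevG2.group K) (Fintype.card K) e f :=
  fun _ _ hp hl hp2 hl2 _ _ _ he hf hS =>
    kill_aux Fintype.one_lt_card hp hl hp2 hl2 he hf hef (FullG2a.sep hp hl hS)

/-- **`KillTwo 3`, `KillTwo 6` for `G₂(q)`**, `q ≡ 3` mod 4 -/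
theorem killTwo_G2 (h4 : Fintype.card K % 4 = 3) {f : ℕ} (hf : f ∈ [3, 6]) :
    KillTwo ↥(chevG2.group K) (Fintype.card K) f :=
  fun _ hl hl2 _ he hS => killTwo_aux Fintype.one_lt_card h4 hl hl2 he hf (FullG2a.sep Nat.prime_two hl hS)

end

end Cfsg.Agent.H795.PQ.GTwo
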